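import Cfsg.Agent.Lib.PG.Gen

set_option autoImplicit false
set_option maxRecDepth 100000
set_option Elab.async false
set_option exponentiation.threshold 100000

namespace Cfsg.Agent.Golay.P24
open Cfsg.Agent.PG

noncomputable def n0 : Net :=
 (.cons 8 0x80
 (.cons 4 0x808
 (.cons 2 0x22222
 (.cons 1 0x155555
 (.cons 2 0x100000
 (.cons 4 0x10000
 (.cons 16 0x1
 .nil)))))))

noncomputable def n1 : Net :=
 (.cons 16 0xc06a
 (.cons 8 0x600a1
 (.cons 4 0xc09020c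
 (.cons 2 0x2302020
 (.cons 1 0x4501441
 (.cons 2 0x200
 (.cons 4 0x800000c
 (.cons 8 0x860089
 (.cons 16 0xc0b4
 .nil)))))))))

noncomputable def n2 : Net :=
 (.cons 16 0x813c
 (.cons 8 0x2000c4
 (.cons 4 0x2090008
 (.cons 2 0x123000
 (.cons 1 0x1055440
 (.cons 2 0x10
 (.cons 4 0x200060c
 (.cons 8 0xa10094
 (.cons 16 0x811c
 .nil)))))))))

noncomputable def n3 : Net :=
 (.cons 16 0x8cf
 (.cons 8 0x3800c0
 (.cons 4 0x800040c
 (.cons 2 0x20002002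
 (.cons 1 0x10400141
 (.cons 2 0x22
 (.cons 4 0x808030a
 (.cons 8 0x300000
 (.cons 16 0x8df
 .nil)))))))))

noncomputable def n4 : Net :=
 (.cons 16 0xc0ba
 (.cons 8 0xc0001a
 (.cons 4 0x10100
 (.cons 2 0x332
 (.cons 1 0x500450
 (.cons 4 0x40208
 (.cons 8 0x10
 (.cons 16 0xc09a
 .nil))))))))

noncomputable def n5 : Net :=
 (.cons 16 0xa070
 (.cons 8 0x8a00c1
 (.cons 4 0xa0400
 (.cons 2 0x2000210
 (.cons 1 0x54400
 (.cons 2 0x1000
 (.cons 4 0x20a0401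
 (.cons 8 0xa00c1
 (.cons 16 0xa050
 .nil)))))))))

noncomputable def n6 : Net :=
 (.cons 16 0x4200
 (.cons 8 0x2100a0
 (.cons 4 0xe0000
 (.cons 2 0x20000200
 (.cons 1 0x41540140
 (.cons 2 0x20000200
 (.cons 4 0x20000
 (.cons 8 0x210080
 (.cons 16 0x4200
 .nil)))))))))

noncomputable def n7 : Net :=
 (.cons 16 0x6280
 (.cons 8 0x460040
 (.cons 4 0x6040800
 (.cons 2 0x22030220
 (.cons 1 0x44154100
 (.cons 2 0x22000200
 (.cons 4 0x40800
 (.cons 8 0x40040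
 (.cons 16 0x6280
 .nil)))))))))

noncomputable def n8 : Net :=
 (.cons 16 0x8240
 (.cons 8 0x60048
 (.cons 4 0x8030208
 (.cons 2 0x20020
 (.cons 1 0x4400100
 (.cons 4 0x8020208
 (.cons 8 0x40008
 (.cons 16 0x8240
 .nil))))))))

noncomputable def n9 : Net :=
 (.cons 16 0x6850
 (.cons 8 0x4a0080
 (.cons 4 0xa040000
 (.cons 2 0x220000
 (.cons 1 0x40010150
 (.cons 2 0x20000
 (.cons 4 0x8000000
 (.cons 8 0x4a0080
 (.cons 16 0x6850
 .nil)))))))))

noncomputable def A : List Net := [n0, n1, n2, n3, n4, n5, n6, n7, n8, n9]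

theorem hA : okA (2 ^ 5) A = true := by decide +kernel

theorem hlen : A.length = 10 := rfl

def tr6 : List ℕ := [1, 0x10c, 0x10e, 0x110, 0x112, 0x10c0e, 0x10c10, 0x10c12
  , 0x10e10, 0x10e12, 0x11012, 0x10c0e10, 0x10c0e12, 0x10c1012, 0x10e1012, 0x10c0e1012
  ]

def ce6 : List (List (ℕ × ℕ)) := [[(1, 1), (2, 1), (3, 1), (4, 1)],
  [(0, 1), (5, 1), (6, 1), (7, 1)],
  [(5, 1), (0, 1), (8, 1), (9, 1)],
  [(6, 1), (8, 1), (0, 1), (10, 1)],
  [(7, 1), (9, 1), (10, 1), (0, 1)],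
  [(2, 1), (1, 1), (11, 1), (12, 1)],
  [(3, 1), (11, 1), (1, 1), (13, 1)],
  [(4, 1), (12, 1), (13, 1), (1, 1)],
  [(11, 1), (3, 1), (2, 1), (14, 1)],
  [(12, 1), (4, 1), (14, 1), (2, 1)],
  [(13, 1), (14, 1), (4, 1), (3, 1)],
  [(8, 1), (6, 1), (5, 1), (15, 1)],
  [(9, 1), (7, 1), (15, 1), (5, 1)],
  [(10, 1), (15, 1), (7, 1), (6, 1)],
  [(15, 1), (10, 1), (9, 1), (8, 1)],
  [(14, 1), (13, 1), (12, 1), (11, 1)]]

noncomputable def cl6_l : List Claim := plainClaims 6 tr6 ce6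

def tr5 : List ℕ := [1, 0x10a, 0x10b]

def ce5 : List (List (ℕ × ℕ)) := [[(1, 1), (0, 0x10c), (0, 0x10e), (0, 0x110), (0, 0x112)],
  [(2, 1), (1, 0x10c10), (1, 0x10c0e12), (1, 0x10c), (1, 0x10c0e10)],
  [(0, 1), (2, 0x110), (2, 0x10c12), (2, 0x10c10), (2, 0x10c0e1012)]]

noncomputable def cl5_l : List Claim := plainClaims 5 tr5 ce5

def tr4 : List ℕ := [1, 0x108, 0x109, 0x10808, 0x1080a, 0x1080c, 0x1080e, 0x10810
  , 0x10812, 0x1090c, 0x1090e, 0x108080c, 0x1080a0c, 0x1080c0b, 0x1080c0e, 0x1080c10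
  , 0x1080e09, 0x108100a, 0x108080c08, 0x1080c0b09]

def ce4 : List (List (ℕ × ℕ)) := [[(1, 1), (0, 0x10b), (0, 0x10c), (0, 0x10e), (0, 0x110), (0, 0x112)],
  [(3, 1), (4, 1), (5, 1), (6, 1), (7, 1), (8, 1)],
  [(0, 1), (1, 0x10a), (9, 1), (10, 1), (8, 0x11012), (7, 0x11012)],
  [(4, 0x10e120a), (3, 0x10e120a), (11, 1), (7, 0x10b), (6, 0x10b), (10, 0x110120b)],
  [(2, 0x10e100b), (2, 0x10b), (12, 1), (8, 0x10e100a), (10, 0x10e120a), (6, 0x10e100a)],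
  [(10, 0x10c0e100a), (10, 0x10e120a), (1, 1), (14, 1), (15, 1), (13, 0x10e100a)],
  [(9, 0x10e10120b), (14, 0x10e100a), (14, 1), (1, 1), (3, 0x10a), (4, 0x110120b)],
  [(8, 0x112), (17, 1), (15, 1), (3, 0x10a), (1, 1), (2, 0x11012)],
  [(15, 0x10e0a), (15, 0x10e100a), (13, 0x10e100a), (4, 0x110120b), (2, 0x11012), (1, 1)],
  [(5, 0x10c1012), (7, 0x10a), (2, 1), (17, 0x10e100b), (13, 0x10a), (15, 0x11012)],
  [(16, 0x10c12), (13, 0x10e100b), (17, 0x10e100b), (2, 1), (4, 0x10e100b), (3, 0x10e100a)],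
  [(18, 1), (6, 0x10e10), (3, 1), (15, 0x10b), (14, 0x10b), (17, 0x110120a)],
  [(17, 0x1100b), (8, 0x110120b), (4, 1), (13, 0x110120b), (17, 1), (14, 0x10e100a)],
  [(7, 0x10c0e0a), (5, 1), (8, 0x110120b), (12, 0x10e100a), (9, 0x10b), (5, 0x110120b)],
  [(11, 0x10e0b), (11, 0x10e120b), (6, 1), (5, 1), (11, 0x10a), (12, 0x110120b)],
  [(19, 0x10c120a), (12, 1), (7, 1), (11, 0x10a), (5, 1), (9, 0x11012)],
  [(6, 1), (18, 0x10e10), (16, 0x10c0e), (16, 0x10e), (16, 0x10c0e1012), (16, 0x10e12)],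
  [(14, 0x10c100a), (9, 0x10b), (10, 0x10e120a), (9, 0x10e120a), (12, 1), (11, 0x10e120b)],
  [(12, 0x10c0e10120a), (19, 0x10c0b), (18, 0x11012), (18, 0x10c0e12), (18, 0x10c0e), (18, 0x10e1012)],
  [(13, 1), (16, 0x10c0e0a), (19, 0x10c0e10), (19, 0x10c0e12), (19, 0x10e12), (19, 0x10c10)]]

noncomputable def cl4_l : List Claim := plainClaims 4 tr4 ce4

def cj3 : List ℕ := [0x10c0e120a080e09, 0x10c0e0b080c0e, 0x1120b0812, 0x10c0e120b08080c, 0x10c10080c0b]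

def reps3 : List Rep := [⟨1, [(0x108, 0x108), (0x10a, 0x10a), (0x10c, 0x10c), (0x10e, 0x10e), (0x110, 0x110), (0x112, 0x112)],
   [(1, 1, 1, 1)], 3⟩,
  ⟨0x106, [(0x10b, 0x10c10120b), (0x1121009, 0x10e12)],
   [(1, 0x10c08, 1, 0x1100b08080c),
    (0x10909, 1, 0, 0x10c0808),
    (0x10d09, 0x1080c, 1, 0x10c0e100b080c0b),
    (0x11109, 0x10e0b, 1, 0x1120b08080c08)], 4⟩]

noncomputable def cl3_l : List Claim := dcClaims 3 5 cj3 reps3

def cj2 : List ℕ := [0x10c0e100b080e06060b, 0x10c1012080e060c, 0x11012080c06060a, 0x10e10120a090e0610, 0x10c0e12080806090c, 0x10c0b080c100709]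

def reps2 : List Rep := [⟨1, [(0x106, 0x106), (0x108, 0x108), (0x10a, 0x10a), (0x10c, 0x10c), (0x10e, 0x10e), (0x110, 0x110), (0x112, 0x112)],
   [(1, 1, 1, 1)], 3⟩,
  ⟨0x104, [(0x10c1206, 0x110120a0812), (0x10c0909, 0x10c10120b080c)],
   [(1, 0x10709, 1, 0x10c101208080609),
    (0x1070807, 1, 0, 0x10c0b080a060906)], 6⟩]

noncomputable def cl2_l : List Claim := dcClaims 2 4 cj2 reps2

def cj1 : List ℕ := [0x10c0e120b08100a060c12040b, 0x1120b06090c0404, 0x10e0a080e09060e0b0407, 0x10c10080c0b060c04, 0x10e10120b080c0e060c0e040404, 0x10e100a080e060c120506, 0x110080c0b060c040c]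

def reps1 : List Rep := [⟨1, [(0x104, 0x104), (0x106, 0x106), (0x108, 0x108), (0x10a, 0x10a), (0x10c, 0x10c), (0x10e, 0x10e), (0x110, 0x110), (0x112, 0x112)],
   [(1, 1, 1, 1)], 3⟩,
  ⟨0x102, [(0x104100409, 0x10e10080c0612), (0x1090a, 0x110120a090e0609)],
   [(1, 0x1070b, 1, 0x10a080c10070410),
    (0x10d0905, 1, 0, 0x11012080e060c1204080c)], 7⟩]

noncomputable def cl1_l : List Claim := dcClaims 1 3 cj1 reps1

def cj0 : List ℕ := [0x10a080a0c0606020406, 0x10e100b080e0407, 0x10b080c0b07, 0x10c10120a0812, 0x10e080e09, 0x1120a080e, 0x10c100b080c0b09, 0x10e1012090e]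

def reps0 : List Rep := [⟨1, [(0x102, 0x102), (0x104, 0x104), (0x106, 0x106), (0x108, 0x108), (0x10a, 0x10a), (0x10c, 0x10c), (0x10e, 0x10e), (0x110, 0x110), (0x112, 0x112)],
   [(1, 1, 1, 1)], 3⟩,
  ⟨0x100, [(0x105031303, 0x10e100b0808060e0b04090a), (0x10d07, 0x10e100a08)],
   [(1, 0x10204, 1, 0x10e0b060e0205),
    (0x1070903, 1, 0, 0x1100b06060b020806)], 5⟩]

noncomputable def cl0_l : List Claim := dcClaims 0 2 cj0 reps0

theorem cl6_0 : chk A 5 (cl6_l) = true := by decide +kernel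

theorem ok6 : plainOK A 6 10 5 tr6 ce6 = true := by decide +kernel

theorem orb6 : orbCardB A 2 6 5 2 16 = true := by decide +kernel

theorem cl5_0 : chk A 5 (cl5_l) = true := by decide +kernel

theorem ok5 : plainOK A 5 6 7 tr5 ce5 = true := by decide +kernel

theorem orb5 : orbCardB A 2 5 7 3 3 = true := by decide +kernel

theorem cl4_0 : chk A 5 (cl4_l) = true := by decide +kernel

theorem ok4 : plainOK A 4 5 4 tr4 ce4 = true := by decide +kernel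

theorem orb4 : orbCardB A 2 4 4 3 20 = true := by decide +kernel

theorem cl3_0 : chk A 5 (cl3_l) = true := by decide +kernel

theorem ok3 : dcOK A 3 5 3 4 3 cj3 reps3 = true := by decide +kernel

theorem orb3 : orbCardB A 2 3 3 3 21 = true := by decide +kernel

theorem cl2_0 : chk A 5 (cl2_l) = true := by decide +kernel

theorem ok2 : dcOK A 2 4 2 3 3 cj2 reps2 = true := by decide +kernel

theorem orb2 : orbCardB A 2 2 2 3 22 = true := by decide +kernel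

theorem cl1_0 : chk A 5 (cl1_l) = true := by decide +kernel

theorem ok1 : dcOK A 1 3 1 2 3 cj1 reps1 = true := by decide +kernel

theorem orb1 : orbCardB A 2 1 1 3 23 = true := by decide +kernel

theorem cl0_0 : chk A 5 (cl0_l) = true := by decide +kernel

theorem ok0 : dcOK A 0 2 0 1 3 cj0 reps0 = true := by decide +kernel

theorem orb0 : orbCardB A 2 0 0 3 24 = true := by decide +kernel

theorem card7 : Nat.card (K A 10) = 1 := card_K_last A (le_of_eq hlen)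

theorem cl6 : ∀ c ∈ cl6_l, Holds A c :=
  (chk_spec hA cl6_0)

theorem stab6 : StabIs A 6 5 10 := stabIs_plain hA ok6 cl6

theorem card6 : Nat.card (K A 6) = 16 := card_K_step hA stab6 orb6 card7

theorem cl5 : ∀ c ∈ cl5_l, Holds A c :=
  (chk_spec hA cl5_0)

theorem stab5 : StabIs A 5 7 6 := stabIs_plain hA ok5 cl5

theorem card5 : Nat.card (K A 5) = 48 := card_K_step hA stab5 orb5 card6

theorem cl4 : ∀ c ∈ cl4_l, Holds A c :=
  (chk_spec hA cl4_0)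

theorem stab4 : StabIs A 4 4 5 := stabIs_plain hA ok4 cl4

theorem card4 : Nat.card (K A 4) = 960 := card_K_step hA stab4 orb4 card5

theorem cl3 : ∀ c ∈ cl3_l, Holds A c :=
  (chk_spec hA cl3_0)

theorem stab3 : StabIs A 3 3 4 := stabIs_dc hA stab4 ok3 cl3

theorem card3 : Nat.card (K A 3) = 20160 := card_K_step hA stab3 orb3 card4

theorem cl2 : ∀ c ∈ cl2_l, Holds A c :=
  (chk_spec hA cl2_0)

theorem stab2 : StabIs A 2 2 3 := stabIs_dc hA stab3 ok2 cl2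

theorem card2 : Nat.card (K A 2) = 443520 := card_K_step hA stab2 orb2 card3

theorem cl1 : ∀ c ∈ cl1_l, Holds A c :=
  (chk_spec hA cl1_0)

theorem stab1 : StabIs A 1 1 2 := stabIs_dc hA stab2 ok1 cl1

theorem card1 : Nat.card (K A 1) = 10200960 := card_K_step hA stab1 orb1 card2

theorem cl0 : ∀ c ∈ cl0_l, Holds A c :=
  (chk_spec hA cl0_0)

theorem stab0 : StabIs A 0 0 1 := stabIs_dc hA stab1 ok0 cl0

theorem card0 : Nat.card (K A 0) = 244823040 := card_K_step hA stab0 orb0 card1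

theorem fixTriv0 {B : Set ℕ} (h0 : 0 ∈ B) (h1 : 1 ∈ B) (h2 : 2 ∈ B) (h3 : 3 ∈ B) (h4 : 4 ∈ B) (h5 : 7 ∈ B) (h6 : 5 ∈ B) : FixTriv (K A 0) B :=
  fixTriv_step stab0 h0 <| fixTriv_step stab1 h1 <| fixTriv_step stab2 h2 <| fixTriv_step stab3 h3 <| fixTriv_step stab4 h4 <| fixTriv_step stab5 h5 <| fixTriv_step stab6 h6 <| fixTriv_last A (le_of_eq hlen) B

theorem fixTriv1 {B : Set ℕ} (h1 : 1 ∈ B) (h2 : 2 ∈ B) (h3 : 3 ∈ B) (h4 : 4 ∈ B) (h5 : 7 ∈ B) (h6 : 5 ∈ B) : FixTriv (K A 1) B :=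
  fixTriv_step stab1 h1 <| fixTriv_step stab2 h2 <| fixTriv_step stab3 h3 <| fixTriv_step stab4 h4 <| fixTriv_step stab5 h5 <| fixTriv_step stab6 h6 <| fixTriv_last A (le_of_eq hlen) B

theorem fixTriv2 {B : Set ℕ} (h2 : 2 ∈ B) (h3 : 3 ∈ B) (h4 : 4 ∈ B) (h5 : 7 ∈ B) (h6 : 5 ∈ B) : FixTriv (K A 2) B :=
  fixTriv_step stab2 h2 <| fixTriv_step stab3 h3 <| fixTriv_step stab4 h4 <| fixTriv_step stab5 h5 <| fixTriv_step stab6 h6 <| fixTriv_last A (le_of_eq hlen) B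

theorem fixTriv3 {B : Set ℕ} (h3 : 3 ∈ B) (h4 : 4 ∈ B) (h5 : 7 ∈ B) (h6 : 5 ∈ B) : FixTriv (K A 3) B :=
  fixTriv_step stab3 h3 <| fixTriv_step stab4 h4 <| fixTriv_step stab5 h5 <| fixTriv_step stab6 h6 <| fixTriv_last A (le_of_eq hlen) B

theorem fixTriv4 {B : Set ℕ} (h4 : 4 ∈ B) (h5 : 7 ∈ B) (h6 : 5 ∈ B) : FixTriv (K A 4) B :=
  fixTriv_step stab4 h4 <| fixTriv_step stab5 h5 <| fixTriv_step stab6 h6 <| fixTriv_last A (le_of_eq hlen) B

theorem fixTriv5 {B : Set ℕ} (h5 : 7 ∈ B) (h6 : 5 ∈ B) : FixTriv (K A 5) B :=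
  fixTriv_step stab5 h5 <| fixTriv_step stab6 h6 <| fixTriv_last A (le_of_eq hlen) B

theorem fixTriv6 {B : Set ℕ} (h6 : 5 ∈ B) : FixTriv (K A 6) B :=
  fixTriv_step stab6 h6 <| fixTriv_last A (le_of_eq hlen) B


end Cfsg.Agent.Golay.P24
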